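import Groth.Agent.Lefpen.H278.OmSys
import Groth.Agent.Lefpen.H716.CIGeom
import Groth.Agent.Fga.EulerLEAdd
import Groth.Agent.Ega3B.ProjProper
import Groth.Agent.Dual.H366.ExtQCoh

/-!
# Grothendieck vanishing on a smooth complete intersection
-/

set_option autoImplicit false
universe u

open CategoryTheory CategoryTheory.Limits AlgebraicGeometry TopologicalSpace Opposite

namespace Groth.Agent.Lefpen.H278.BigVanish

open LefPen Groth.Agent.Lefpen.H718.Chart Groth.Agent.Lefpen.H722.Sys Groth.Agent.Lefpen.H278.OmSys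
open Groth.Agent.Lefpen.H278.RingIso

variable {N d : ℕ} {k : Type u} [Field k] {a : Fin d → ℕ} (G : ∀ j : Fin d, Form N k (a j))

theorem isProper_yStr : IsProper (yStr G) := by
  have hP : IsProper (CohB1.ProjSpace.toSpec N k) := Groth.Agent.Ega3B.ProjProper.isProper_toSpec _ _
  infer_instance

theorem isNoetherian_Y : IsNoetherian (Y G) := by
  have hP := isProper_yStr G
  exact { __ := LocallyOfFiniteType.isLocallyNoetherian (yStr G)
          __ := QuasiCompact.compactSpace_of_compactSpace (yStr G) }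

/-- `H^i(Y, M) = 0` for `i > n = dim Y`. -/
theorem subsingleton_HH (n : ℕ) [SmoothOfRelativeDimension n (yStr G)] (M : (Y G).Modules) (i : ℕ)
    (hi : n < i) : Subsingleton (Coh.HH (Y G) M i) := by
  have := isNoetherian_Y G
  exact Groth.Agent.Fga.EulerLEAdd.subsingleton_HH (Y G) n
    (Groth.Agent.Lefpen.H716.CIGeom.topologicalKrullDim_le_of_smooth n (yStr G)) M i hi

/-- `H^i` of the system of `Ω^j` vanishes for `i > n = dim Y`. -/
theorem subsingleton_H_omSys (n : ℕ) [SmoothOfRelativeDimension n (yStr G)] (j : ℕ) (i : ℕ)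
    (hi : n < i) : Subsingleton (H (omSys (Gp G) j) i) := by
  let _ : (Y G).Over (Spec (CommRingCat.of k)) := ⟨yStr G⟩
  have hs : Smooth (yStr G) := SmoothOfRelativeDimension.smooth n (yStr G)
  obtain ⟨L, hL⟩ := Groth.Agent.Dual.H366.ExtQCoh.exists_isExtPow j
    (Groth.Agent.PerfA.QCohEpi.isQCoh_of_isFinLocFree
      (Groth.Agent.Lefpen.H721.OmegaSec.isFinLocFree_omega (yStr G)))
  obtain ⟨e⟩ := nonempty_omSys_equiv G n rfl hL i
  have := subsingleton_HH G n L i hi
  exact e.toEquiv.subsingleton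

end Groth.Agent.Lefpen.H278.BigVanish
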