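import Groth.Agent.Ega3B.CechNatural
import Groth.Agent.LoccohB.HHmap
import Groth.Agent.CohqA.CechBasic
import Groth.Agent.Lefpen.H278.AbHomology

/-!
# Cohomology classes of concrete Čech cocycles, naturally in the module

For a quasi-coherent module `M` and a cover `U` with affine finite intersections, every concrete
Čech cocycle has a class in `H^p(X, M)`; this is surjective with kernel the coboundaries and
compatible with multiplication by global functions.
-/

set_option autoImplicit false
universe u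

open CategoryTheory CategoryTheory.Limits AlgebraicGeometry Opposite TopologicalSpace
open Groth.Agent.CohqA.CechBasic Groth.Agent.LoccohB.HHmap Groth.Agent.LoccohB.GlueHom

namespace Groth.Agent.Lefpen.H278.CechPi

open AbHomology

variable {X : Scheme.{u}} {ι : Type u} (U : ι → X.Opens)

/-- Mathlib's Čech complex of a module. -/
noncomputable abbrev KK (M : X.Modules) : CochainComplex AddCommGrpCat.{u} ℕ :=
  (cechComplexFunctor (A := AddCommGrpCat.{u}) U).obj M.presheaf

/-- The induced map of Čech complexes. -/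
noncomputable abbrev KKmap {M N : X.Modules} (φ : M ⟶ N) : KK U M ⟶ KK U N :=
  (cechComplexFunctor (A := AddCommGrpCat.{u}) U).map ((Scheme.Modules.toPresheaf X).map φ)

theorem KKmap_f {M N : X.Modules} (φ : M ⟶ N) (p : ℕ) :
    (KKmap U φ).f p = Limits.Pi.map (fun i : Fin (p + 1) → ι =>
      ((Scheme.Modules.toPresheaf X).map φ).app (op (∏ᶜ (U ∘ i)))) := rfl

theorem res_app {M N : X.Modules} (φ : M ⟶ N) {V W : X.Opens} (h : V ≤ W)
    (m : M.presheaf.obj (op W)) :
    Groth.Agent.CohqA.CechBasic.res N.presheaf h (φ.app W m) =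
      φ.app V (Groth.Agent.CohqA.CechBasic.res M.presheaf h m) :=
  (congr($(((Scheme.Modules.toPresheaf X).map φ).naturality (homOfLE h).op) m)).symm

theorem equivX_KKmap {M N : X.Modules} (φ : M ⟶ N) (p : ℕ) (x : CX U M.presheaf p)
    (i : Fin (p + 1) → ι) :
    equivX U N.presheaf p ((KKmap U φ).f p x) i =
      φ.app (⨅ a, U (i a)) (equivX U M.presheaf p x i) := by
  rw [equivX_apply, equivX_apply, ← res_app, KKmap_f]
  congr 1
  exact congrArg (fun t => t.hom x) (Limits.Pi.map_π (fun i : Fin (p + 1) → ι =>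
      ((Scheme.Modules.toPresheaf X).map φ).app (op (∏ᶜ (U ∘ i)))) i)

/-- `d` on Mathlib's Čech complex versus the concrete differential. -/
theorem equivX_KKd (M : X.Modules) (p : ℕ) (x : CX U M.presheaf p) :
    equivX U M.presheaf (p + 1) ((KK U M).d p (p + 1) x) = dC U M.presheaf p (equivX U M.presheaf p x) :=
  equivX_CXd U M.presheaf p x

/-- Concrete cocycles. -/
abbrev ZC (M : X.Modules) (p : ℕ) : Type u := (dC U M.presheaf p).ker

/-- A concrete cocycle as a cocycle of Mathlib's complex. -/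
noncomputable def toZ (M : X.Modules) (p : ℕ) : ZC U M p →+ Z (KK U M) p (p + 1) where
  toFun s := ⟨(equivX U M.presheaf p).symm s.1, by
    apply (equivX U M.presheaf (p + 1)).injective
    refine (equivX_KKd U M p _).trans ?_
    rw [AddEquiv.apply_symm_apply]
    exact s.2.trans (map_zero (equivX U M.presheaf (p + 1))).symm⟩
  map_zero' := Subtype.ext (map_zero (equivX U M.presheaf p).symm)
  map_add' a b := Subtype.ext (map_add (equivX U M.presheaf p).symm a.1 b.1)

theorem toZ_surjective (M : X.Modules) (p : ℕ) : Function.Surjective (toZ U M p) := by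
  intro z
  refine ⟨⟨equivX U M.presheaf p z.1, ?_⟩, Subtype.ext (AddEquiv.symm_apply_apply _ _)⟩
  have h := equivX_KKd U M p z.1
  have hz : (KK U M).d p (p + 1) z.1 = 0 := z.2
  rw [hz] at h
  exact h.symm.trans (map_zero (equivX U M.presheaf (p + 1)))

/-- The class of a concrete cocycle in Mathlib's Čech cohomology. -/
noncomputable def clsK (M : X.Modules) (p : ℕ) : ZC U M p →+ (KK U M).homology p :=
  (cls (KK U M) (i := p) (j := p + 1) (by simp)).comp (toZ U M p)

theorem clsK_surjective (M : X.Modules) (p : ℕ) : Function.Surjective (clsK U M p) :=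
  (cls_surjective (KK U M) (i := p) (j := p + 1) (by simp)).comp (toZ_surjective U M p)

theorem clsK_eq_zero_iff_succ (M : X.Modules) (p : ℕ) (s : ZC U M (p + 1)) :
    clsK U M (p + 1) s = 0 ↔ ∃ t : Cochain U M.presheaf p, dC U M.presheaf p t = s.1 := by
  refine (cls_eq_zero_iff (KK U M) (i := p + 1) (j := p + 1 + 1) (by simp) p (by simp) _).trans ?_
  constructor
  · rintro ⟨y, hy⟩
    refine ⟨equivX U M.presheaf p y, ?_⟩
    rw [← equivX_KKd]
    refine (congrArg _ hy).trans ?_
    exact AddEquiv.apply_symm_apply _ _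
  · rintro ⟨t, ht⟩
    refine ⟨(equivX U M.presheaf p).symm t, ?_⟩
    apply (equivX U M.presheaf (p + 1)).injective
    refine (equivX_KKd U M p _).trans ?_
    rw [AddEquiv.apply_symm_apply, ht]
    exact (AddEquiv.apply_symm_apply (equivX U M.presheaf (p + 1)) s.1).symm

theorem clsK_eq_zero_iff_zero (M : X.Modules) (s : ZC U M 0) : clsK U M 0 s = 0 ↔ s = 0 := by
  refine (cls_eq_zero_iff (KK U M) (i := 0) (j := 0 + 1) (by simp) 0 (by simp) _).trans ?_
  constructor
  · rintro ⟨y, hy⟩
    have h1 : (KK U M).d 0 0 = 0 := (KK U M).shape 0 0 (by simp)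
    rw [h1] at hy
    have h2 : (0 : (KK U M).X 0) = (equivX U M.presheaf 0).symm s.1 := hy
    refine Subtype.ext ?_
    apply (equivX U M.presheaf 0).symm.injective
    rw [← h2]
    exact (map_zero (equivX U M.presheaf 0).symm).symm
  · rintro rfl
    exact ⟨0, (map_zero _).trans (map_zero (equivX U M.presheaf 0).symm).symm⟩

theorem clsK_map {M N : X.Modules} (φ : M ⟶ N) (p : ℕ) (s : ZC U M p) (t : ZC U N p)
    (h : ∀ i, t.1 i = φ.app (⨅ a, U (i a)) (s.1 i)) :
    HomologicalComplex.homologyMap (KKmap U φ) p (clsK U M p s) = clsK U N p t := by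
  refine cls_map (KKmap U φ) (by simp) (toZ U M p s) (toZ U N p t) ?_
  apply (equivX U N.presheaf p).injective
  refine (funext fun i => ?_ : equivX U N.presheaf p ((KKmap U φ).f p ((equivX U M.presheaf p).symm s.1)) =
    equivX U N.presheaf p ((equivX U N.presheaf p).symm t.1))
  rw [equivX_KKmap, AddEquiv.apply_symm_apply, AddEquiv.apply_symm_apply, h]

section HH

variable (hcov : ⨆ i, U i = ⊤) (hU : ∀ s : Finset ι, s.Nonempty → IsAffineOpen (⨅ i ∈ s, U i))

/-- Quasi-coherent modules as a full subcategory. -/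
abbrev QC (X : Scheme.{u}) := ObjectProperty.FullSubcategory (fun M : X.Modules => Coh.IsQCoh M)

/-- The comparison isomorphism. -/
noncomputable def cmp (p : ℕ) :=
  Groth.Agent.Ega3B.CechNatural.cechIsoMod U hcov hU p
    (ObjectProperty.ι (fun M : X.Modules => Coh.IsQCoh M)) (fun M => M.2)

/-- The comparison isomorphism at a module. -/
noncomputable def cmpAt (M : X.Modules) (hM : Coh.IsQCoh M) (p : ℕ) :
    (KK U M).homology p ≃+ Coh.HH X M p :=
  ((cmp U hcov hU p).app ⟨M, hM⟩).addCommGroupIsoToAddEquiv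

theorem cmpAt_map {M N : X.Modules} (hM : Coh.IsQCoh M) (hN : Coh.IsQCoh N) (φ : M ⟶ N) (p : ℕ)
    (x : (KK U M).homology p) :
    cmpAt U hcov hU N hN p (HomologicalComplex.homologyMap (KKmap U φ) p x) =
      map φ p (cmpAt U hcov hU M hM p x) :=
  congr($((cmp U hcov hU p).hom.naturality (X := ⟨M, hM⟩) (Y := ⟨N, hN⟩) ⟨φ⟩) x)

/-- The class of a concrete cocycle in cohomology. -/
noncomputable def clsH (M : X.Modules) (hM : Coh.IsQCoh M) (p : ℕ) : ZC U M p →+ Coh.HH X M p :=
  (cmpAt U hcov hU M hM p).toAddMonoidHom.comp (clsK U M p)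

theorem clsH_surjective (M : X.Modules) (hM : Coh.IsQCoh M) (p : ℕ) :
    Function.Surjective (clsH U hcov hU M hM p) :=
  (cmpAt U hcov hU M hM p).surjective.comp (clsK_surjective U M p)

theorem clsH_eq_zero_iff_succ (M : X.Modules) (hM : Coh.IsQCoh M) (p : ℕ) (s : ZC U M (p + 1)) :
    clsH U hcov hU M hM (p + 1) s = 0 ↔
      ∃ t : Cochain U M.presheaf p, dC U M.presheaf p t = s.1 := by
  rw [← clsK_eq_zero_iff_succ]
  exact (cmpAt U hcov hU M hM (p + 1)).map_eq_zero_iff

theorem clsH_eq_zero_iff_zero (M : X.Modules) (hM : Coh.IsQCoh M) (s : ZC U M 0) :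
    clsH U hcov hU M hM 0 s = 0 ↔ s = 0 := by
  rw [← clsK_eq_zero_iff_zero]
  exact (cmpAt U hcov hU M hM 0).map_eq_zero_iff

theorem clsH_map {M N : X.Modules} (hM : Coh.IsQCoh M) (hN : Coh.IsQCoh N) (φ : M ⟶ N) (p : ℕ)
    (s : ZC U M p) (t : ZC U N p) (h : ∀ i, t.1 i = φ.app (⨅ a, U (i a)) (s.1 i)) :
    map φ p (clsH U hcov hU M hM p s) = clsH U hcov hU N hN p t := by
  refine (cmpAt_map U hcov hU hM hN φ p _).symm.trans ?_
  exact congrArg (cmpAt U hcov hU N hN p) (clsK_map U φ p s t h)

/-- Compatibility with multiplication by a global function. -/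
theorem clsH_smul (M : X.Modules) (hM : Coh.IsQCoh M) (p : ℕ) (r : Γ(X, ⊤))
    (s t : ZC U M p) (h : ∀ i, t.1 i = (resO (le_top : (⨅ a, U (i a)) ≤ ⊤) r • (s.1 i : Γ(M, ⨅ a, U (i a))) :
      Γ(M, ⨅ a, U (i a)))) :
    clsH U hcov hU M hM p t = (id r : Coh.Γtop X) • clsH U hcov hU M hM p s :=
  (clsH_map U hcov hU hM hM (smulHom M r) p s t (fun i => (h i).trans
    (smulHom_app M r _ _).symm)).symm

end HH

end Groth.Agent.Lefpen.H278.CechPi
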