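import Groth.Agent.Lefpen.H722.Ring

/-!
# Homogeneous parts of Laurent polynomials, and the kernel of `grA → gr`

`mk_eq_zero_iff_of_mem_grA`: for `x` of degree `m`, `mk G I x = 0` iff `x = ∑ G_j h_j` with `h_j` of degree `m - a_j` and
poles along the variables in `I`.
-/

set_option autoImplicit false
universe u

open MvPolynomial

namespace Groth.Agent.Lefpen.H278.DegPart

open Groth.Agent.CohqA.LaurentLoc Groth.Agent.CohqA.LaurentCech Groth.Agent.Lefpen.H722.Ring

variable {k : Type u} [CommRing k] {ι : Type} [Fintype ι]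

/-- The part of total degree `m`. -/
noncomputable def part (m : ℤ) (x : LR ι k) : LR ι k :=
  AddMonoidAlgebra.ofCoeff (x.coeff.filter (fun e => ∑ i, e i = m))

open Classical in
theorem coeff_part (m : ℤ) (x : LR ι k) (e : ι → ℤ) :
    (part m x).coeff e = if ∑ i, e i = m then x.coeff e else 0 := by
  change (x.coeff.filter (fun e => ∑ i, e i = m)) e = _
  rw [Finsupp.filter_apply]

theorem part_zero (m : ℤ) : part m (0 : LR ι k) = 0 := by
  classical
  apply AddMonoidAlgebra.coeff_injective
  ext e
  rw [coeff_part]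
  simp

theorem part_add (m : ℤ) (x y : LR ι k) : part m (x + y) = part m x + part m y := by
  classical
  apply AddMonoidAlgebra.coeff_injective
  ext e
  rw [coeff_part, AddMonoidAlgebra.coeff_add, AddMonoidAlgebra.coeff_add, Finsupp.add_apply, Finsupp.add_apply,
    coeff_part, coeff_part]
  split_ifs
  · rfl
  · rw [add_zero]

theorem part_sum {κ : Type*} (s : Finset κ) (m : ℤ) (x : κ → LR ι k) :
    part m (∑ j ∈ s, x j) = ∑ j ∈ s, part m (x j) := by
  classical
  induction s using Finset.induction_on with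
  | empty => rw [Finset.sum_empty, Finset.sum_empty, part_zero]
  | insert j s hj ih => rw [Finset.sum_insert hj, Finset.sum_insert hj, part_add, ih]

theorem part_eq_self {m : ℤ} {x : LR ι k} (h : ∀ e, x.coeff e ≠ 0 → ∑ i, e i = m) : part m x = x := by
  classical
  apply AddMonoidAlgebra.coeff_injective
  ext e
  rw [coeff_part]
  split_ifs with h'
  · rfl
  · by_contra hne
    exact h' (h e (fun h0 => hne h0.symm))

theorem part_mem {I : Set ι} {m : ℤ} {x : LR ι k} (hx : x ∈ AI k I) : (part m x).coeff ∈ Lsub k m I := by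
  classical
  intro e he
  rw [coeff_part] at he
  split_ifs at he with h
  · exact ⟨h, hx e he⟩
  · exact absurd rfl he

theorem degree_of_coeff_toLaurent {P : MvPolynomial ι k} {n : ℕ} (hP : P.IsHomogeneous n) {e : ι → ℤ}
    (he : (toLaurent P).coeff e ≠ 0) : ∑ i, e i = n := by
  have h1 : (ofP (Set.univ : Set ι) P) ∈ grA k (Set.univ : Set ι) n := ofP_mem hP
  exact mem_grA_iff.1 h1 e he

theorem part_mul {P : MvPolynomial ι k} {n : ℕ} (hP : P.IsHomogeneous n) (m : ℤ) (x : LR ι k) :
    part m (toLaurent P * x) = toLaurent P * part (m - n) x := by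
  classical
  apply AddMonoidAlgebra.coeff_injective
  ext e
  rw [coeff_part, AddMonoidAlgebra.coeff_mul_apply_left, AddMonoidAlgebra.coeff_mul_apply_left]
  have h1 : ∀ e' ∈ (toLaurent P).coeff.support, (toLaurent P).coeff e' * (part (m - n) x).coeff (-e' + e) =
      if ∑ i, e i = m then (toLaurent P).coeff e' * x.coeff (-e' + e) else 0 := by
    intro e' he'
    have h2 := degree_of_coeff_toLaurent hP (Finsupp.mem_support_iff.1 he')
    rw [coeff_part]
    have h3 : ∑ i, (-e' + e) i = ∑ i, e i - n := by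
      simp only [Pi.add_apply, Pi.neg_apply]
      rw [Finset.sum_add_distrib, Finset.sum_neg_distrib, h2]
      ring
    rw [h3]
    by_cases h : ∑ i, e i = m
    · rw [if_pos h, if_pos (by rw [h])]
    · rw [if_neg h, if_neg (fun h' => h (by omega)), mul_zero]
  rw [Finsupp.sum, Finsupp.sum, Finset.sum_congr rfl h1]
  split_ifs
  · rfl
  · rw [Finset.sum_const_zero]

variable {d : ℕ} (G : Fin d → MvPolynomial ι k)

/-- The kernel of `mk` in a given degree. -/
theorem mk_eq_zero_iff_of_mem_grA {a : Fin d → ℕ} (hG : ∀ j, (G j).IsHomogeneous (a j)) {I : Set ι} {m : ℤ}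
    {x : AI k I} (hx : x ∈ grA k I m) :
    mk G I x = 0 ↔ ∃ h : Fin d → LR ι k, (∀ j, (h j).coeff ∈ Lsub k (m - a j) I) ∧
      x.1 = ∑ j, toLaurent (G j) * h j := by
  rw [mk_eq_zero_iff, JI, Ideal.mem_span_range_iff_exists_fun]
  constructor
  · rintro ⟨c, hc⟩
    refine ⟨fun j => part (m - a j) (c j).1, fun j => part_mem (c j).2, ?_⟩
    have h1 := congrArg (fun y : AI k I => part m y.1) hc
    rw [part_eq_self (mem_grA_iff.1 hx), AddSubmonoidClass.coe_finsetSum, part_sum] at h1
    rw [← h1]
    refine Finset.sum_congr rfl fun j _ => ?_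
    rw [MulMemClass.coe_mul, ofP_val, mul_comm, part_mul (hG j)]
  · rintro ⟨h, hh, hx⟩
    refine ⟨fun j => ⟨h j, mem_AI_of_mem_Lsub (hh j)⟩, ?_⟩
    apply Subtype.ext
    rw [hx, AddSubmonoidClass.coe_finsetSum]
    refine Finset.sum_congr rfl fun j _ => ?_
    rw [MulMemClass.coe_mul, ofP_val, mul_comm]

end Groth.Agent.Lefpen.H278.DegPart
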