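import Mathlib.Algebra.Homology.ShortComplex.HomologicalComplex
import Mathlib.Algebra.Homology.ShortComplex.ModuleCat
import Mathlib.Algebra.Category.ModuleCat.Abelian

/-!
# Homology of complexes of modules, elementwise and naturally
-/

set_option autoImplicit false
universe u v w

open CategoryTheory CategoryTheory.Limits

namespace Groth.Agent.Lefpen.H278.ModHomology

variable {k : Type v} [Ring k] {σ : Type w} {c : ComplexShape σ}
  (K L : HomologicalComplex (ModuleCat.{u} k) c)

theorem iCycles_injective (i : σ) : Function.Injective (K.iCycles i).hom :=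
  (ModuleCat.mono_iff_injective _).1 inferInstance

theorem homologyπ_surjective (i : σ) : Function.Surjective (K.homologyπ i).hom :=
  (ModuleCat.epi_iff_surjective _).1 inferInstance

theorem exists_cycle {i : σ} (j : σ) (hj : c.next i = j) (x : K.X i) (hx : (K.d i j).hom x = 0) :
    ∃ z : K.cycles i, (K.iCycles i).hom z = x := by
  have hex : (ShortComplex.mk (K.iCycles i) (K.d i j) (K.iCycles_d i j)).Exact :=
    ShortComplex.exact_of_f_is_kernel _ (K.cyclesIsKernel i j hj)
  rw [ShortComplex.moduleCat_exact_iff] at hex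
  exact hex x hx

theorem d_iCycles (i j : σ) (z : K.cycles i) : (K.d i j).hom ((K.iCycles i).hom z) = 0 := by
  have h := congr($(K.iCycles_d i j) z)
  exact h

theorem homologyπ_eq_zero_iff {i : σ} (j : σ) (hj : c.prev i = j) (z : K.cycles i) :
    (K.homologyπ i).hom z = 0 ↔ ∃ y : K.X j, (K.d j i).hom y = (K.iCycles i).hom z := by
  have hex : (ShortComplex.mk (K.toCycles j i) (K.homologyπ i) (K.toCycles_comp_homologyπ j i)).Exact :=
    ShortComplex.exact_of_g_is_cokernel _ (K.homologyIsCokernel j i hj)
  rw [ShortComplex.moduleCat_exact_iff] at hex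
  constructor
  · intro h
    obtain ⟨y, hy⟩ := hex z h
    refine ⟨y, ?_⟩
    change (K.toCycles j i).hom y = z at hy
    rw [← hy]
    exact (congr($(K.toCycles_i j i) y)).symm
  · rintro ⟨y, hy⟩
    have h1 : (K.toCycles j i).hom y = z := iCycles_injective K i (by
      refine Eq.trans ?_ hy
      exact congr($(K.toCycles_i j i) y))
    rw [← h1]
    exact congr($(K.toCycles_comp_homologyπ j i) y)

/-- Cocycles of degree `i`, as a submodule. -/
abbrev Z (i j : σ) : Type u := LinearMap.ker (K.d i j).hom

/-- The element of `cycles` attached to a cocycle. -/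
noncomputable def cyc {i j : σ} (hj : c.next i = j) (x : Z K i j) : K.cycles i :=
  (exists_cycle K j hj x.1 x.2).choose

theorem i_cyc {i j : σ} (hj : c.next i = j) (x : Z K i j) : (K.iCycles i).hom (cyc K hj x) = x.1 :=
  (exists_cycle K j hj x.1 x.2).choose_spec

theorem cyc_eq {i j : σ} (hj : c.next i = j) (x : Z K i j) (z : K.cycles i)
    (hz : (K.iCycles i).hom z = x.1) : cyc K hj x = z :=
  iCycles_injective K i ((i_cyc K hj x).trans hz.symm)

/-- The class of a cocycle. -/
noncomputable def cls {i j : σ} (hj : c.next i = j) : Z K i j →ₗ[k] K.homology i where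
  toFun x := (K.homologyπ i).hom (cyc K hj x)
  map_add' x y := by
    rw [cyc_eq K hj (x + y) (cyc K hj x + cyc K hj y) (by
      rw [map_add, i_cyc, i_cyc]; rfl), map_add]
  map_smul' t x := by
    rw [cyc_eq K hj (t • x) (t • cyc K hj x) (by
      rw [map_smul, i_cyc]; rfl), map_smul]
    rfl

theorem cls_eq {i j : σ} (hj : c.next i = j) (x : Z K i j) (z : K.cycles i)
    (hz : (K.iCycles i).hom z = x.1) : cls K hj x = (K.homologyπ i).hom z :=
  congrArg (K.homologyπ i).hom (cyc_eq K hj x z hz)

theorem cls_surjective {i j : σ} (hj : c.next i = j) : Function.Surjective (cls K hj) := by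
  intro h
  obtain ⟨z, rfl⟩ := homologyπ_surjective K i h
  exact ⟨⟨(K.iCycles i).hom z, d_iCycles K i j z⟩, cls_eq K hj _ z rfl⟩

theorem cls_eq_zero_iff {i j : σ} (hj : c.next i = j) (l : σ) (hl : c.prev i = l)
    (x : Z K i j) : cls K hj x = 0 ↔ ∃ y : K.X l, (K.d l i).hom y = x.1 := by
  obtain ⟨z, hz⟩ := exists_cycle K j hj x.1 x.2
  rw [cls_eq K hj x z hz, homologyπ_eq_zero_iff K l hl, hz]

variable {K L}

theorem cls_map (φ : K ⟶ L) {i j : σ} (hj : c.next i = j) (x : Z K i j)
    (y : Z L i j) (hxy : (φ.f i).hom x.1 = y.1) :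
    (HomologicalComplex.homologyMap φ i).hom (cls K hj x) = cls L hj y := by
  obtain ⟨z, hz⟩ := exists_cycle K j hj x.1 x.2
  rw [cls_eq K hj x z hz]
  have h1 : (HomologicalComplex.homologyMap φ i).hom ((K.homologyπ i).hom z) =
      (L.homologyπ i).hom ((HomologicalComplex.cyclesMap φ i).hom z) :=
    congr($(HomologicalComplex.homologyπ_naturality φ i) z)
  rw [h1]
  refine (cls_eq L hj y _ ?_).symm
  rw [← hxy, ← hz]
  exact congr($(HomologicalComplex.cyclesMap_i φ i) z)

end Groth.Agent.Lefpen.H278.ModHomology
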