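import Groth.Agent.Lefpen.H722.Sys
import Groth.Agent.Lefpen.H278.CechPi
import Groth.Agent.Lefpen.H278.ModHomology
import Groth.Agent.Fga.MumCech

/-!
# The system of sections of a quasi-coherent module on the intersections of an affine cover

`secSys k U M : Sys k ι`, `I ↦ Γ(M, ⋂_{i ∈ I} U i)`, and `H^p(secSys k U M) ≃ₗ[k] H^p(X, M)`.
-/

set_option autoImplicit false
universe u

open CategoryTheory CategoryTheory.Limits AlgebraicGeometry Opposite TopologicalSpace
open Groth.Agent.LoccohB.GlueHom

namespace Groth.Agent.Lefpen.H278.SecSys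

open Groth.Agent.Lefpen.H722.Sys Groth.Agent.Fga.MumCech CechPi

variable (k : Type u) [Field k] {X : Scheme.{u}} [X.Over (Spec (CommRingCat.of k))] {ι : Type}
  (U : ι → X.Opens)

/-- The intersection of the opens with index in `I`. -/
noncomputable def UI (I : Set ι) : X.Opens := ⨅ i ∈ I, U i

theorem UI_anti {I J : Set ι} (h : I ⊆ J) : UI U J ≤ UI U I :=
  biInf_mono h

theorem UI_range {p : ℕ} (σ : Fin (p + 1) → ι) : UI U (Set.range σ) = ⨅ a, U (σ a) := by
  rw [UI, iInf_range]

/-- Sections of `M` over `⋂_{i ∈ I} U i`, as a `k`-module. -/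
def Sec (_ : Type u) {X : Scheme.{u}} (M : X.Modules) (V : X.Opens) : Type u := Γ(M, V)

noncomputable instance (M : X.Modules) (V : X.Opens) : AddCommGroup (Sec k M V) :=
  inferInstanceAs (AddCommGroup Γ(M, V))

noncomputable instance (M : X.Modules) (V : X.Opens) : Module k (Sec k M V) :=
  modV k M V

/-- Restriction of sections, `k`-linearly. -/
noncomputable def resK (M : X.Modules) {V W : X.Opens} (h : W ≤ V) : Sec k M V →ₗ[k] Sec k M W where
  toFun m := Groth.Agent.CohqA.CechBasic.res M.presheaf h m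
  map_add' a b := map_add _ a b
  map_smul' t a := res_smul k M h t a

theorem resK_resK (M : X.Modules) {V W Z : X.Opens} (h : W ≤ V) (h' : Z ≤ W) (m : Sec k M V) :
    resK k M h' (resK k M h m) = resK k M (h'.trans h) m :=
  Groth.Agent.CohqA.CechBasic.res_res M.presheaf h' h m

theorem resK_self (M : X.Modules) {V : X.Opens} (m : Sec k M V) : resK k M le_rfl m = m :=
  Groth.Agent.CohqA.CechBasic.res_self M.presheaf m

/-- The system of sections. -/
noncomputable def secSys (M : X.Modules) : Sys k ι where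
  M I := Sec k M (UI U I)
  res h := resK k M (UI_anti U h)
  res_res _ _ x := resK_resK k M _ _ x

/-- The cover indexed by `ULift ι`. -/
abbrev UL : ULift.{u} ι → X.Opens := fun i => U i.down

/-- Sections over equal opens. -/
noncomputable def castK (M : X.Modules) {V W : X.Opens} (h : V = W) : Sec k M V ≃ₗ[k] Sec k M W where
  __ := resK k M h.ge
  invFun := resK k M h.le
  left_inv m := (resK_resK k M _ _ m).trans (resK_self k M m)
  right_inv m := (resK_resK k M _ _ m).trans (resK_self k M m)

theorem castK_apply (M : X.Modules) {V W : X.Opens} (h : V = W) (m : Sec k M V) :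
    castK k M h m = resK k M h.ge m := rfl

theorem UI_range_down {p : ℕ} (i : Fin (p + 1) → ULift.{u} ι) :
    UI U (Set.range (fun a => (i a).down)) = ⨅ a, UL U (i a) := UI_range U _

/-- `castK` with values of the system. -/
noncomputable def castS (M : X.Modules) {p : ℕ} (i : Fin (p + 1) → ULift.{u} ι) :
    (secSys k U M).M (Set.range (fun a => (i a).down)) ≃ₗ[k] Sec k M (⨅ a, UL U (i a)) :=
  castK k M (UI_range_down U i)

/-- Cochains of the system and concrete Čech cochains. -/
noncomputable def toCo (M : X.Modules) (p : ℕ) :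
    C (secSys k U M) p ≃+ Groth.Agent.CohqA.CechBasic.Cochain (UL U) M.presheaf p where
  toFun s i := castS k U M i (s (fun a => (i a).down))
  invFun t σ := (castS k U M (fun a => ULift.up (σ a))).symm (t (fun a => ULift.up (σ a)))
  left_inv s := by
    funext σ
    exact (castS k U M (fun a => ULift.up (σ a))).symm_apply_apply _
  right_inv t := by
    funext i
    exact (castS k U M i).apply_symm_apply _
  map_add' s t := by
    funext i
    exact map_add (castS k U M i) _ _

theorem toCo_apply (M : X.Modules) (p : ℕ) (s : C (secSys k U M) p) (i : Fin (p + 1) → ULift.{u} ι) :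
    toCo k U M p s i = castS k U M i (s (fun a => (i a).down)) := rfl

theorem toCo_d (M : X.Modules) (p : ℕ) (s : C (secSys k U M) p) :
    toCo k U M (p + 1) (d (secSys k U M) p s) =
      Groth.Agent.CohqA.CechBasic.dC (UL U) M.presheaf p (toCo k U M p s) := by
  funext i
  rw [toCo_apply, d_apply, map_sum, Groth.Agent.CohqA.CechBasic.dC_apply]
  refine Finset.sum_congr rfl fun j _ => ?_
  rw [map_zsmul]
  congr 1
  rw [toCo_apply]
  exact (resK_resK k M _ _ _).trans (resK_resK k M _ _ _).symm

theorem toCo_smul (M : X.Modules) (p : ℕ) (t : k) (s : C (secSys k U M) p)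
    (i : Fin (p + 1) → ULift.{u} ι) :
    toCo k U M p (t • s) i = (resO (le_top : (⨅ a, UL U (i a)) ≤ ⊤)
      (Groth.Agent.CurvesB.HZero.gl k X t) • (toCo k U M p s i : Γ(M, ⨅ a, UL U (i a))) :
      Γ(M, ⨅ a, UL U (i a))) := by
  rw [toCo_apply, toCo_apply, Pi.smul_apply, map_smul]
  rfl

/-- A cocycle of the system as a concrete cocycle. -/
noncomputable def toZC (M : X.Modules) (p : ℕ) :
    LinearMap.ker (d (secSys k U M) p) ≃+ ZC (UL U) M p where
  toFun s := ⟨toCo k U M p s.1, by
    rw [AddMonoidHom.mem_ker, ← toCo_d, LinearMap.mem_ker.1 s.2, map_zero]⟩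
  invFun t := ⟨(toCo k U M p).symm t.1, by
    rw [LinearMap.mem_ker]
    apply (toCo k U M (p + 1)).injective
    rw [toCo_d, AddEquiv.apply_symm_apply, map_zero]
    exact t.2⟩
  left_inv s := Subtype.ext ((toCo k U M p).symm_apply_apply _)
  right_inv t := Subtype.ext ((toCo k U M p).apply_symm_apply _)
  map_add' s t := Subtype.ext (map_add (toCo k U M p) _ _)

section

variable (hcov : ⨆ i, U i = ⊤) (hU : ∀ s : Finset ι, s.Nonempty → IsAffineOpen (⨅ i ∈ s, U i))

theorem covL (hcov : ⨆ i, U i = ⊤) : ⨆ i, UL.{u} U i = ⊤ := by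
  rw [← hcov]
  exact Equiv.ulift.iSup_congr fun _ => rfl

open Classical in
theorem affL (hU : ∀ s : Finset ι, s.Nonempty → IsAffineOpen (⨅ i ∈ s, U i))
    (s : Finset (ULift.{u} ι)) (hs : s.Nonempty) : IsAffineOpen (⨅ i ∈ s, UL U i) := by
  have h1 := hU (s.image ULift.down) (hs.image _)
  rwa [Finset.iInf_finset_image] at h1

/-- The class in `H^p(X, M)` of a cocycle of the system, `k`-linearly. -/
noncomputable def clsS (M : X.Modules) (hM : Coh.IsQCoh M) (p : ℕ) :
    LinearMap.ker (d (secSys k U M) p) →ₗ[k] Coh.HH X M p where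
  toFun s := clsH (UL U) (covL U hcov) (affL U hU) M hM p (toZC k U M p s)
  map_add' s t := by rw [map_add, map_add]
  map_smul' t s := clsH_smul (UL U) (covL U hcov) (affL U hU) M hM p
    (Groth.Agent.CurvesB.HZero.gl k X t) (toZC k U M p s) (toZC k U M p (t • s))
    (fun i => toCo_smul k U M p t s.1 i)

theorem clsS_surjective (M : X.Modules) (hM : Coh.IsQCoh M) (p : ℕ) :
    Function.Surjective (clsS k U hcov hU M hM p) :=
  (clsH_surjective (UL U) (covL U hcov) (affL U hU) M hM p).comp (toZC k U M p).surjective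

theorem clsS_eq_zero_iff_succ (M : X.Modules) (hM : Coh.IsQCoh M) (p : ℕ)
    (s : LinearMap.ker (d (secSys k U M) (p + 1))) :
    clsS k U hcov hU M hM (p + 1) s = 0 ↔ ∃ t : C (secSys k U M) p, d (secSys k U M) p t = s.1 := by
  refine (clsH_eq_zero_iff_succ (UL U) (covL U hcov) (affL U hU) M hM p _).trans ?_
  constructor
  · rintro ⟨t, ht⟩
    refine ⟨(toCo k U M p).symm t, ?_⟩
    apply (toCo k U M (p + 1)).injective
    rw [toCo_d, AddEquiv.apply_symm_apply, ht]
    rfl
  · rintro ⟨t, ht⟩
    refine ⟨toCo k U M p t, ?_⟩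
    rw [← toCo_d, ht]
    rfl

theorem clsS_eq_zero_iff_zero (M : X.Modules) (hM : Coh.IsQCoh M)
    (s : LinearMap.ker (d (secSys k U M) 0)) : clsS k U hcov hU M hM 0 s = 0 ↔ s = 0 := by
  refine (clsH_eq_zero_iff_zero (UL U) (covL U hcov) (affL U hU) M hM _).trans ?_
  exact (toZC k U M 0).map_eq_zero_iff

end

/-- The class in the cohomology of a system. -/
noncomputable def clsV (V : Sys k ι) (p : ℕ) : LinearMap.ker (d V p) →ₗ[k] H V p :=
  (ModHomology.cls (cx V) (i := p) (j := p + 1) (by simp)).comp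
    (LinearEquiv.ofEq _ _ (by rw [cx_d]; rfl) :
      LinearMap.ker (d V p) ≃ₗ[k] ModHomology.Z (cx V) p (p + 1)).toLinearMap

theorem clsV_surjective (V : Sys k ι) (p : ℕ) : Function.Surjective (clsV k V p) :=
  (ModHomology.cls_surjective (cx V) (i := p) (j := p + 1) (by simp)).comp (LinearEquiv.surjective _)

theorem clsV_eq_zero_iff_succ (V : Sys k ι) (p : ℕ) (s : LinearMap.ker (d V (p + 1))) :
    clsV k V (p + 1) s = 0 ↔ ∃ t : C V p, d V p t = s.1 := by
  refine (ModHomology.cls_eq_zero_iff (cx V) (i := p + 1) (j := p + 1 + 1) (by simp) p (by simp) _).trans ?_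
  rw [cx_d]
  rfl

theorem clsV_eq_zero_iff_zero (V : Sys k ι) (s : LinearMap.ker (d V 0)) :
    clsV k V 0 s = 0 ↔ s = 0 := by
  refine (ModHomology.cls_eq_zero_iff (cx V) (i := 0) (j := 0 + 1) (by simp) 0 (by simp) _).trans ?_
  have h1 : (cx V).d 0 0 = 0 := (cx V).shape 0 0 (by simp)
  rw [h1]
  constructor
  · rintro ⟨y, hy⟩
    exact Subtype.ext hy.symm
  · rintro rfl
    exact ⟨0, rfl⟩

/-- **Čech comparison**: the cohomology of the system of sections is the cohomology of the module. -/
theorem nonempty_equiv (hcov : ⨆ i, U i = ⊤)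
    (hU : ∀ s : Finset ι, s.Nonempty → IsAffineOpen (⨅ i ∈ s, U i)) (M : X.Modules)
    (hM : Coh.IsQCoh M) (p : ℕ) : Nonempty (H (secSys k U M) p ≃ₗ[k] Coh.HH X M p) := by
  have hker : LinearMap.ker (clsV k (secSys k U M) p) = LinearMap.ker (clsS k U hcov hU M hM p) := by
    ext s
    rw [LinearMap.mem_ker, LinearMap.mem_ker]
    cases p with
    | zero => rw [clsV_eq_zero_iff_zero, clsS_eq_zero_iff_zero]
    | succ p => rw [clsV_eq_zero_iff_succ, clsS_eq_zero_iff_succ]
  exact ⟨((clsV k (secSys k U M) p).quotKerEquivOfSurjective (clsV_surjective k _ p)).symm.trans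
    ((Submodule.quotEquivOfEq _ _ hker).trans
      ((clsS k U hcov hU M hM p).quotKerEquivOfSurjective (clsS_surjective k U hcov hU M hM p)))⟩

end Groth.Agent.Lefpen.H278.SecSys
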