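import Groth.Agent.CohqA.LaurentProj
import Groth.Agent.Lefpen.H718.Chart
import Groth.Agent.Lefpen.H278.SecSys

/-!
# Functions on `D_+(T_I) ⊆ P^N` as Laurent polynomials

* `UI_chart : UI (chart N k) I = D_+(X^{1_I})`.
* `L0 k I`: the algebra of Laurent polynomials of degree `0` with poles along the variables in `I`.
* `evI I : Γ(P^N, UI chart I) ≃+* L0 k I` for `I` nonempty, compatible with restriction.
* `ev_dehom`: `ev (G / T_j^d) = G · T_j^{-d}`.
-/

set_option autoImplicit false
universe u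

open CategoryTheory AlgebraicGeometry Limits TopologicalSpace Opposite

namespace Groth.Agent.Lefpen.H278.LaurSec

open LefPen Groth.Agent.Fdesc.LocGen Groth.Agent.CohqA.LaurentCech Groth.Agent.CohqA.LaurentLoc
open Groth.Agent.CohqA.LaurentProj Groth.Agent.Lefpen.H278.SecSys Groth.Agent.Lefpen.H705.HypIdeal

section Opens

variable {X : Type*} [TopologicalSpace X] {ι : Type} [Finite ι]

theorem mem_biInf (U : ι → Opens X) (I : Set ι) (x : X) : x ∈ (⨅ i ∈ I, U i) ↔ ∀ i ∈ I, x ∈ U i := by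
  rw [← SetLike.mem_coe, iInf_subtype', Opens.coe_iInf]
  simp

end Opens

variable {N : ℕ} {k : Type u} [Field k]

open Classical in
/-- The exponent of the product of the variables in `I`. -/
noncomputable def indC (I : Set (Fin (N + 1))) : Fin (N + 1) →₀ ℕ :=
  Finsupp.equivFunOnFinite.symm fun i => if i ∈ I then 1 else 0

open Classical in
theorem indC_apply (I : Set (Fin (N + 1))) (i : Fin (N + 1)) : indC I i = if i ∈ I then 1 else 0 := rfl

theorem indC_support (I : Set (Fin (N + 1))) : ((indC I).support : Set (Fin (N + 1))) = I := by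
  ext i
  simp [indC_apply]

theorem indC_ne_zero {I : Set (Fin (N + 1))} (hI : I.Nonempty) : indC I ≠ 0 := by
  obtain ⟨i, hi⟩ := hI
  intro h
  have h1 := DFunLike.congr_fun h i
  rw [indC_apply, if_pos hi] at h1
  exact one_ne_zero h1

/-- `D_+(X^c)`, as an open of `CohB1.ProjSpace`. -/
noncomputable def DpS (N : ℕ) (k : Type u) [Field k] (c : Fin (N + 1) →₀ ℕ) : (CohB1.ProjSpace N k).Opens :=
  Dp k c

theorem mem_DpS (c : Fin (N + 1) →₀ ℕ) (x : CohB1.ProjSpace N k) :
    x ∈ DpS N k c ↔ ∀ i ∈ c.support, x ∈ chart N k i := by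
  have h1 : x ∈ DpS N k c ↔
      (MvPolynomial.monomial c (1 : k)) ∉ (ProjectiveSpectrum.asHomogeneousIdeal x).toIdeal := Iff.rfl
  have h2 : ∀ i, x ∈ chart N k i ↔
      (MvPolynomial.X i : MvPolynomial (Fin (N + 1)) k) ∉ (ProjectiveSpectrum.asHomogeneousIdeal x).toIdeal :=
    fun i => Iff.rfl
  have hp : (ProjectiveSpectrum.asHomogeneousIdeal x).toIdeal.IsPrime := ProjectiveSpectrum.isPrime x
  rw [h1, MvPolynomial.monomial_eq, map_one, one_mul, Finsupp.prod, hp.prod_mem_iff]
  push Not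
  refine forall₂_congr fun i hi => ?_
  rw [h2, hp.pow_mem_iff_mem _ (Nat.pos_of_ne_zero (Finsupp.mem_support_iff.1 hi))]

theorem UI_chart (I : Set (Fin (N + 1))) :
    UI (chart N k) I = DpS N k (indC I) := by
  ext x
  rw [SetLike.mem_coe, SetLike.mem_coe, mem_DpS, UI, mem_biInf]
  have h1 : ∀ i, i ∈ (indC I).support ↔ i ∈ I := fun i => by
    rw [← Finset.mem_coe, indC_support]
  simp_rw [h1]

theorem isAffineOpen_UI_chart {I : Set (Fin (N + 1))} (hI : I.Nonempty) :
    IsAffineOpen (UI (chart N k) I) := by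
  rw [UI_chart]
  exact Proj.isAffineOpen_basicOpen (CohB1.polyGrading N k) _ (monomial_mem (indC I))
    (degree_pos (indC_ne_zero hI))

/-- Evaluation of functions as Laurent polynomials. -/
noncomputable def evS (V : (CohB1.ProjSpace N k).Opens) (hV : DpS N k (ones N) ≤ V) :
    Γ(CohB1.ProjSpace N k, V) →+* LR (Fin (N + 1)) k :=
  ev (n := N) (R := k) V hV

theorem evS_ores {V W : (CohB1.ProjSpace N k).Opens} (hV : DpS N k (ones N) ≤ V) (h : V ≤ W)
    (s : Γ(CohB1.ProjSpace N k, W)) : evS V hV (ores h s) = evS W (hV.trans h) s :=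
  ev_map (n := N) (R := k) hV h s

theorem ones_le_chart (j : Fin (N + 1)) : DpS N k (ones N) ≤ chart N k j :=
  ones_le (Finsupp.single j 1)

theorem evS_dehom {d : ℕ} (G : Form N k d) (j : Fin (N + 1)) :
    evS (chart N k j) (ones_le_chart j) (dehom G j) =
      toLaurent G.1 * AddMonoidAlgebra.single (-(d • castExp (Finsupp.single j 1))) 1 := by
  have hc : Finsupp.single j 1 ≠ (0 : Fin (N + 1) →₀ ℕ) := by simp
  have h1 := ev_secIso (n := N) (R := k) (Finsupp.single j 1) hc
    (HomogeneousLocalization.Away.mk (CohB1.polyGrading N k) (X_mem N k j) d G.1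
      (by rw [smul_eq_mul, mul_one]; exact G.2))
  rw [secIso_hom] at h1
  refine h1.trans ?_
  rw [awayToLR_apply, HomogeneousLocalization.Away.val_mk]
  exact toLR_mk (Finsupp.single j 1) G.1 d _

section Mul

variable {ι : Type*} [Fintype ι] {R : Type*} [CommRing R]

theorem mul_mem_Lsub {a b : ℤ} {I : Set ι} {x y : LR ι R} (hx : x.coeff ∈ Lsub R a I)
    (hy : y.coeff ∈ Lsub R b I) : (x * y).coeff ∈ Lsub R (a + b) I := by
  classical
  intro m hm
  rw [AddMonoidAlgebra.coeff_mul] at hm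
  obtain ⟨m₁, h1, h2⟩ := Finset.exists_ne_zero_of_sum_ne_zero hm
  obtain ⟨m₂, h3, h4⟩ := Finset.exists_ne_zero_of_sum_ne_zero h2
  have h5 : m₁ + m₂ = m := by
    by_contra h
    exact h4 (if_neg h)
  obtain ⟨h6, h7⟩ := hx m₁ (Finsupp.mem_support_iff.1 h1)
  obtain ⟨h8, h9⟩ := hy m₂ (Finsupp.mem_support_iff.1 h3)
  subst h5
  refine ⟨?_, fun i hi => add_nonneg (h7 i hi) (h9 i hi)⟩
  simp only [Pi.add_apply]
  rw [Finset.sum_add_distrib, h6, h8]

theorem algebraMap_mem_Lsub (I : Set ι) (c : R) : (algebraMap R (LR ι R) c).coeff ∈ Lsub R 0 I := by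
  intro m hm
  have h1 : m = 0 := by
    by_contra h
    apply hm
    rw [AddMonoidAlgebra.coe_algebraMap]
    exact Finsupp.single_eq_of_ne h
  subst h1
  exact ⟨Finset.sum_const_zero, fun i _ => le_rfl⟩

theorem single_mem_Lsub (m : ι → ℤ) (I : Set ι) (hm : ∀ i, i ∉ I → 0 ≤ m i) {d : ℤ} (hd : ∑ i, m i = d) (r : R) :
    (AddMonoidAlgebra.single m r : LR ι R).coeff ∈ Lsub R d I := by
  intro m' hm'
  have h1 : m' = m := by
    by_contra h
    exact hm' (Finsupp.single_eq_of_ne h)
  subst h1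
  exact ⟨hd, hm⟩

end Mul

/-- Laurent polynomials of degree `0` with poles along the variables in `I`. -/
noncomputable def L0 (N : ℕ) (k : Type u) [Field k] (I : Set (Fin (N + 1))) : Subalgebra k (LR (Fin (N + 1)) k) where
  carrier := {x | x.coeff ∈ Lsub k 0 I}
  zero_mem' := (Lsub k 0 I).zero_mem
  add_mem' {x y} hx hy := (Lsub k 0 I).add_mem hx hy
  algebraMap_mem' c := algebraMap_mem_Lsub I c
  mul_mem' {x y} hx hy := by
    have := mul_mem_Lsub hx hy
    rwa [add_zero] at this

theorem mem_L0 {I : Set (Fin (N + 1))} {x : LR (Fin (N + 1)) k} : x ∈ L0 N k I ↔ x.coeff ∈ Lsub k 0 I := Iff.rfl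

theorem L0_mono {I J : Set (Fin (N + 1))} (h : I ⊆ J) : L0 N k I ≤ L0 N k J := fun _ hx => Lsub_mono h hx

theorem ones_le_UI (I : Set (Fin (N + 1))) : DpS N k (ones N) ≤ UI (chart N k) I := by
  rw [UI_chart]
  exact ones_le (indC I)

/-- Evaluation on `D_+(T_I)`. -/
noncomputable def evI (I : Set (Fin (N + 1))) (hI : I.Nonempty) :
    Γ(CohB1.ProjSpace N k, UI (chart N k) I) ≃+* L0 N k I :=
  RingEquiv.ofBijective
    ((evS (UI (chart N k) I) (ones_le_UI I)).codRestrict (L0 N k I).toSubring (fun s => by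
      have h1 := ev_mem (n := N) (R := k) (indC I) (indC_ne_zero hI) (UI_chart I) (ones_le_UI I) s
      rw [indC_support] at h1
      exact h1))
    (by
      constructor
      · intro s t h
        exact ev_injective (n := N) (R := k) (indC I) (indC_ne_zero hI) (UI_chart I) (ones_le_UI I)
          (congrArg Subtype.val h)
      · rintro ⟨x, hx⟩
        obtain ⟨s, hs⟩ := exists_ev (n := N) (R := k) (indC I) (indC_ne_zero hI) (UI_chart I)
          (ones_le_UI I) x.coeff (by rw [indC_support]; exact hx)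
        exact ⟨s, Subtype.ext (AddMonoidAlgebra.coeff_injective hs)⟩)

theorem evI_apply {I : Set (Fin (N + 1))} (hI : I.Nonempty) (s : Γ(CohB1.ProjSpace N k, UI (chart N k) I)) :
    (evI I hI s).1 = evS (UI (chart N k) I) (ones_le_UI I) s := rfl

theorem evI_ores {I J : Set (Fin (N + 1))} (hI : I.Nonempty) (h : I ⊆ J)
    (s : Γ(CohB1.ProjSpace N k, UI (chart N k) I)) :
    (evI J (hI.mono h) (ores (UI_anti (chart N k) h) s)).1 = (evI I hI s).1 :=
  evS_ores _ _ s

theorem ores_evI_symm {I J : Set (Fin (N + 1))} (hI : I.Nonempty) (h : I ⊆ J) (x : L0 N k I) :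
    ores (UI_anti (chart N k) h) ((evI I hI).symm x) =
      (evI J (hI.mono h)).symm (Subalgebra.inclusion (L0_mono h) x) := by
  apply (evI J (hI.mono h)).injective
  apply Subtype.ext
  rw [evI_ores hI h, RingEquiv.apply_symm_apply, RingEquiv.apply_symm_apply]
  rfl

end Groth.Agent.Lefpen.H278.LaurSec
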