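import Groth.Agent.Lefpen.H278.LaurSec
import Groth.Agent.Lefpen.H721.OmegaSec

/-!
# Functions on the intersections of the standard charts of a complete intersection

`Y = V(G_1, …, G_d) ⊆ P^N`, `U_I = Y ∩ D_+(T_I)`, `I` nonempty:
`toSec G hI : L0 N k I →ₐ[k] SA (yStr G) (UI (ychart G) I)` is surjective, natural in `I`, with kernel the
elements `∑ G_l h_l`, `h_l` of degree `-a_l` with poles along the variables in `I`.
-/

set_option autoImplicit false
universe u

open CategoryTheory AlgebraicGeometry Limits TopologicalSpace Opposite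

namespace Groth.Agent.Lefpen.H278.SecRing

open LefPen Groth.Agent.Fdesc.LocGen Groth.Agent.CohqA.LaurentCech Groth.Agent.CohqA.LaurentLoc
open Groth.Agent.CohqA.LaurentProj Groth.Agent.Lefpen.H278.SecSys Groth.Agent.Lefpen.H278.LaurSec
open Groth.Agent.Lefpen.H705.HypIdeal Groth.Agent.Lefpen.H705.ChartPoly Groth.Agent.Lefpen.H718.Chart
open Groth.Agent.Lefpen.H721.OmegaSec Groth.Agent.CurvesB.OmegaStalkDict Groth.Agent.Sga5

variable {N d : ℕ} {k : Type u} [Field k] {a : Fin d → ℕ} (G : ∀ j : Fin d, Form N k (a j))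

theorem UI_ychart (I : Set (Fin (N + 1))) : UI (ychart G) I = yι G ⁻¹ᵁ UI (chart N k) I := by
  ext x
  rw [SetLike.mem_coe, SetLike.mem_coe, Scheme.Hom.mem_preimage, UI, UI, mem_biInf, mem_biInf]
  rfl

theorem iSup_ychart : ⨆ j : Fin (N + 1), ychart G j = ⊤ := by
  rw [eq_top_iff]
  intro x _
  have h1 : yι G x ∈ (⨆ j : Fin (N + 1), chart N k j) := by rw [iSup_chart]; trivial
  obtain ⟨j, hj⟩ := Opens.mem_iSup.1 h1
  exact Opens.mem_iSup.2 ⟨j, hj⟩

theorem isAffineOpen_UI_ychart {I : Set (Fin (N + 1))} (hI : I.Nonempty) :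
    IsAffineOpen (UI (ychart G) I) := by
  rw [UI_ychart]
  exact (isAffineOpen_UI_chart hI).preimage (yι G)

theorem isAffineOpen_biInf_ychart (s : Finset (Fin (N + 1))) (hs : s.Nonempty) :
    IsAffineOpen (⨅ i ∈ s, ychart G i) :=
  isAffineOpen_UI_ychart G (I := (s : Set (Fin (N + 1)))) hs

theorem appLE_surjective_of_eq {X Y : Scheme.{u}} (f : X ⟶ Y) (V : Y.Opens) (W : X.Opens)
    (h : W = f ⁻¹ᵁ V) (hs : Function.Surjective (f.app V)) :
    Function.Surjective (f.appLE V W h.le) := by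
  subst h
  rw [← Scheme.Hom.app_eq_appLE]
  exact hs

theorem ker_appLE_of_eq {X Y : Scheme.{u}} (f : X ⟶ Y) (V : Y.Opens) (W : X.Opens)
    (h : W = f ⁻¹ᵁ V) :
    RingHom.ker (f.appLE V W h.le).hom = RingHom.ker (f.app V).hom := by
  subst h
  rw [← Scheme.Hom.app_eq_appLE]

/-- Restriction of functions from `D_+(T_I)` to `Y ∩ D_+(T_I)`. -/
noncomputable def toYI (I : Set (Fin (N + 1))) :
    Γ(CohB1.ProjSpace N k, UI (chart N k) I) →+* Γ(Y G, UI (ychart G) I) :=
  ((yι G).appLE (UI (chart N k) I) (UI (ychart G) I) (UI_ychart G I).le).hom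

theorem toYI_surjective {I : Set (Fin (N + 1))} (hI : I.Nonempty) :
    Function.Surjective (toYI G I) :=
  appLE_surjective_of_eq (yι G) _ _ (UI_ychart G I)
    ((ciIdeal G).subschemeι_app_surjective ⟨UI (chart N k) I, isAffineOpen_UI_chart hI⟩)

theorem ker_toYI {I : Set (Fin (N + 1))} (hI : I.Nonempty) :
    RingHom.ker (toYI G I) = (ciIdeal G).ideal ⟨UI (chart N k) I, isAffineOpen_UI_chart hI⟩ :=
  (ker_appLE_of_eq (yι G) _ _ (UI_ychart G I)).trans
    ((ciIdeal G).ker_subschemeι_app ⟨UI (chart N k) I, isAffineOpen_UI_chart hI⟩)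

theorem UI_chart_le {I : Set (Fin (N + 1))} {j : Fin (N + 1)} (hj : j ∈ I) :
    UI (chart N k) I ≤ chart N k j := biInf_le _ hj

theorem mem_ker_toYI {I : Set (Fin (N + 1))} {j : Fin (N + 1)} (hj : j ∈ I)
    (s : Γ(CohB1.ProjSpace N k, UI (chart N k) I)) :
    toYI G I s = 0 ↔ ∃ c : Fin d → Γ(CohB1.ProjSpace N k, UI (chart N k) I),
      ∑ l, c l * ores (UI_chart_le hj) (dehom (G l) j) = s := by
  have h1 : toYI G I s = 0 ↔ s ∈ (ciIdeal G).ideal ⟨UI (chart N k) I, isAffineOpen_UI_chart ⟨j, hj⟩⟩ := by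
    rw [← ker_toYI G ⟨j, hj⟩]
    rfl
  rw [h1, ciIdeal_ideal_of_le G j _ (UI_chart_le hj), Ideal.mem_span_range_iff_exists_fun]

theorem ores_toYI {I J : Set (Fin (N + 1))} (h : I ⊆ J)
    (s : Γ(CohB1.ProjSpace N k, UI (chart N k) I)) :
    ores (UI_anti (ychart G) h) (toYI G I s) = toYI G J (ores (UI_anti (chart N k) h) s) := by
  have h1 : (yι G).appLE (UI (chart N k) I) (UI (ychart G) I) (UI_ychart G I).le ≫
      (Y G).presheaf.map (homOfLE (UI_anti (ychart G) h)).op =
      (CohB1.ProjSpace N k).presheaf.map (homOfLE (UI_anti (chart N k) h)).op ≫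
        (yι G).appLE (UI (chart N k) J) (UI (ychart G) J) (UI_ychart G J).le := by
    rw [Scheme.Hom.appLE_map, Scheme.Hom.map_appLE]
  exact congr($(h1).hom s)

theorem toYI_secHom (I : Set (Fin (N + 1))) (c : k) :
    toYI G I (secHom (CohB1.ProjSpace.toSpec N k) (UI (chart N k) I) c) =
      secHom (yStr G) (UI (ychart G) I) c := by
  rw [secHom_eq, secHom_eq]
  exact congr($(Scheme.Hom.appLE_comp_appLE (yι G) (CohB1.ProjSpace.toSpec N k) ⊤ (UI (chart N k) I)
    (UI (ychart G) I) le_top (UI_ychart G I).le).hom ((Scheme.ΓSpecIso (CommRingCat.of k)).inv.hom c))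

theorem ores_secHom {X : Scheme.{u}} (f : X ⟶ Spec (CommRingCat.of k)) {V W : X.Opens} (h : W ≤ V) (c : k) :
    ores h (secHom f V c) = secHom f W c := res_secHom f h c

/-- Constants. -/
theorem evS_secHom (V : (CohB1.ProjSpace N k).Opens) (hV : DpS N k (ones N) ≤ V) (c : k) :
    evS V hV (secHom (CohB1.ProjSpace.toSpec N k) V c) = algebraMap k (LR (Fin (N + 1)) k) c := by
  have h1 : ∀ (W : (CohB1.ProjSpace N k).Opens) (hW : DpS N k (ones N) ≤ W),
      evS W hW (secHom (CohB1.ProjSpace.toSpec N k) W c) =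
        evS (DpS N k (ones N)) le_rfl (secHom (CohB1.ProjSpace.toSpec N k) (DpS N k (ones N)) c) :=
    fun W hW => by
      rw [← ores_secHom _ hW c, evS_ores le_rfl hW]
  rw [h1 V hV, ← h1 (chart N k 0) (ones_le_chart 0)]
  have hC : (MvPolynomial.C c : MvPolynomial (Fin (N + 1)) k) ∈ CohB1.polyGrading N k 0 :=
    (MvPolynomial.mem_homogeneousSubmodule 0 _).mpr (MvPolynomial.isHomogeneous_C _ c)
  have h2 : secHom (CohB1.ProjSpace.toSpec N k) (chart N k 0) c =
      dehom (⟨MvPolynomial.C c, hC⟩ : Form N k 0) 0 := by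
    rw [secHom_eq, dehom_eq]
    refine (toSpec_appLE 0 c).trans ?_
    rw [ProjChart.dehom_C]
  rw [h2, evS_dehom]
  change toLaurent (MvPolynomial.C c) * AddMonoidAlgebra.single (-(0 • castExp (Finsupp.single 0 1))) 1 = _
  rw [zero_smul, neg_zero, MvPolynomial.C_apply, toLaurent_monomial, map_zero,
    AddMonoidAlgebra.single_mul_single, add_zero, mul_one]
  rfl

/-- Functions on `Y ∩ D_+(T_I)` as Laurent polynomials of degree `0`. -/
noncomputable def toSec {I : Set (Fin (N + 1))} (hI : I.Nonempty) :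
    L0 N k I →ₐ[k] SA (yStr G) (UI (ychart G) I) where
  toRingHom := (toYI G I).comp (evI I hI).symm.toRingHom
  commutes' c := by
    have h1 : (evI I hI).symm (algebraMap k (L0 N k I) c) =
        secHom (CohB1.ProjSpace.toSpec N k) (UI (chart N k) I) c := by
      rw [RingEquiv.symm_apply_eq]
      apply Subtype.ext
      rw [evI_apply, evS_secHom]
      rfl
    change toYI G I ((evI I hI).symm (algebraMap k (L0 N k I) c)) = _
    rw [h1, toYI_secHom]
    rfl

theorem toSec_apply {I : Set (Fin (N + 1))} (hI : I.Nonempty) (x : L0 N k I) :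
    toSec G hI x = toYI G I ((evI I hI).symm x) := rfl

theorem toSec_surjective {I : Set (Fin (N + 1))} (hI : I.Nonempty) : Function.Surjective (toSec G hI) :=
  (toYI_surjective G hI).comp (evI I hI).symm.surjective

/-- Naturality. -/
theorem resA_toSec {I J : Set (Fin (N + 1))} (hI : I.Nonempty) (h : I ⊆ J) (x : L0 N k I) :
    resA (yStr G) (UI_anti (ychart G) h) (toSec G hI x) =
      toSec G (hI.mono h) (Subalgebra.inclusion (L0_mono h) x) := by
  rw [toSec_apply, toSec_apply, ← ores_evI_symm hI h, ← ores_toYI G h]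
  rfl

/-- The exponent of `T_j^e`. -/
noncomputable def pw (j : Fin (N + 1)) (e : ℤ) : Fin (N + 1) → ℤ := Pi.single j e

theorem castExp_single (j : Fin (N + 1)) (e : ℕ) : e • castExp (Finsupp.single j 1) = pw j (e : ℤ) := by
  funext i
  rw [Pi.smul_apply, castExp_apply, pw]
  by_cases h : i = j
  · subst h
    simp
  · rw [Finsupp.single_eq_of_ne h, Pi.single_eq_of_ne h]
    simp

theorem single_pw_mem {I : Set (Fin (N + 1))} {j : Fin (N + 1)} (hj : j ∈ I) (e : ℤ) :
    (AddMonoidAlgebra.single (pw j e) 1 : LR (Fin (N + 1)) k).coeff ∈ Lsub k e I := by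
  refine single_mem_Lsub _ I (fun i hi => ?_) ?_ 1
  · rw [pw, Pi.single_eq_of_ne (fun h : i = j => hi (by rw [h]; exact hj))]
  · rw [pw, Finset.sum_pi_single']
    simp

theorem single_pw_mul (j : Fin (N + 1)) (e : ℤ) :
    (AddMonoidAlgebra.single (pw j e) 1 : LR (Fin (N + 1)) k) * AddMonoidAlgebra.single (pw j (-e)) 1 = 1 := by
  have h : pw j (-e) = -pw j e := by
    rw [pw, pw, Pi.single_neg]
  rw [h, single_mul_single_neg]

theorem evI_ores_dehom {I : Set (Fin (N + 1))} (hI : I.Nonempty) {j : Fin (N + 1)} (hj : j ∈ I) (l : Fin d) :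
    (evI I hI (ores (UI_chart_le hj) (dehom (G l) j))).1 =
      toLaurent (G l).1 * AddMonoidAlgebra.single (pw j (-(a l : ℤ))) 1 := by
  rw [evI_apply, evS_ores, evS_dehom, castExp_single]
  congr 2
  rw [pw, pw, Pi.single_neg]

/-- **The kernel.** -/
theorem toSec_eq_zero_iff {I : Set (Fin (N + 1))} (hI : I.Nonempty) (x : L0 N k I) :
    toSec G hI x = 0 ↔ ∃ h : Fin d → LR (Fin (N + 1)) k, (∀ l, (h l).coeff ∈ Lsub k (-(a l : ℤ)) I) ∧
      x.1 = ∑ l, toLaurent (G l).1 * h l := by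
  obtain ⟨j, hj⟩ := id hI
  refine (mem_ker_toYI G hj ((evI I hI).symm x)).trans ?_
  constructor
  · rintro ⟨c, hc⟩
    refine ⟨fun l => AddMonoidAlgebra.single (pw j (-(a l : ℤ))) 1 * (evI I hI (c l)).1, fun l => ?_, ?_⟩
    · have := mul_mem_Lsub (single_pw_mem (k := k) hj (-(a l : ℤ))) (evI I hI (c l)).2
      rwa [add_zero] at this
    · have h1 := congrArg (fun s => ((evI I hI) s).1) hc
      simp only [RingEquiv.apply_symm_apply] at h1
      rw [← h1, map_sum, AddSubmonoidClass.coe_finsetSum]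
      refine Finset.sum_congr rfl fun l _ => ?_
      rw [map_mul, MulMemClass.coe_mul, evI_ores_dehom G hI hj]
      ring
  · rintro ⟨h, hh, hx⟩
    refine ⟨fun l => (evI I hI).symm ⟨AddMonoidAlgebra.single (pw j (a l : ℤ)) 1 * h l, ?_⟩, ?_⟩
    · have := mul_mem_Lsub (single_pw_mem (k := k) hj (a l : ℤ)) (hh l)
      rwa [add_neg_cancel] at this
    · rw [RingEquiv.eq_symm_apply]
      apply Subtype.ext
      rw [hx, map_sum, AddSubmonoidClass.coe_finsetSum]
      refine Finset.sum_congr rfl fun l _ => ?_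
      rw [map_mul, MulMemClass.coe_mul, evI_ores_dehom G hI hj, RingEquiv.apply_symm_apply]
      change AddMonoidAlgebra.single (pw j (a l : ℤ)) 1 * h l * (toLaurent (G l).1 *
        AddMonoidAlgebra.single (pw j (-(a l : ℤ))) 1) = _
      have h2 := single_pw_mul (k := k) j (a l : ℤ)
      calc AddMonoidAlgebra.single (pw j (a l : ℤ)) 1 * h l * (toLaurent (G l).1 *
          AddMonoidAlgebra.single (pw j (-(a l : ℤ))) 1) =
          (AddMonoidAlgebra.single (pw j (a l : ℤ)) 1 * AddMonoidAlgebra.single (pw j (-(a l : ℤ))) 1) *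
            (toLaurent (G l).1 * h l) := by ring
        _ = _ := by rw [h2, one_mul]

end Groth.Agent.Lefpen.H278.SecRing
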