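import Groth.Agent.Lefpen.H278.DegPart
import Groth.Agent.Lefpen.H278.SecRing

/-!
# `(F_I)_0 ≃ₐ[k] Γ(Y, U_I)`

`Y = V(G_1, …, G_d) ⊆ P^N`, `U_I = Y ∩ D_+(T_I)`, `F_I` the graded ring `H722.Ring.F`:

* `F0 G I`: the subalgebra of elements of degree `0` of `F G I` (`mem_F0`), `ρ0`: its restriction maps.
* `e0 G hI : F0 (Gp G) I ≃ₐ[k] SA (yStr G) (UI (ychart G) I)`, `resA_e0`: natural in `I`.
-/

set_option autoImplicit false
universe u

open CategoryTheory AlgebraicGeometry Limits TopologicalSpace Opposite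

namespace Groth.Agent.Lefpen.H278.RingIso

open LefPen Groth.Agent.CohqA.LaurentCech Groth.Agent.CohqA.LaurentLoc
open Groth.Agent.Lefpen.H278.SecSys Groth.Agent.Lefpen.H278.LaurSec Groth.Agent.Lefpen.H278.SecRing
open Groth.Agent.Lefpen.H278.DegPart
open Groth.Agent.Lefpen.H718.Chart Groth.Agent.Lefpen.H721.OmegaSec Groth.Agent.Lefpen.H722.Ring

section F0

variable {k : Type u} [CommRing k] {ι : Type} [Fintype ι] {d : ℕ} (G : Fin d → MvPolynomial ι k)

/-- The subalgebra of elements of degree `0`. -/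
noncomputable def F0 (I : Set ι) : Subalgebra k (F G I) where
  carrier := {x | x ∈ gr G I 0}
  zero_mem' := (gr G I 0).zero_mem
  add_mem' {x y} hx hy := (gr G I 0).add_mem hx hy
  algebraMap_mem' c := by
    have h1 : algebraMap k (F G I) c = c • 1 := Algebra.algebraMap_eq_smul_one c
    rw [h1]
    exact (gr G I 0).smul_mem c (one_mem_gr G I)
  mul_mem' {x y} hx hy := by
    have := mul_mem_gr G hx hy
    rwa [add_zero] at this

theorem mem_F0 {I : Set ι} {x : F G I} : x ∈ F0 G I ↔ x ∈ gr G I 0 := Iff.rfl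

/-- Restriction. -/
noncomputable def ρ0 {I J : Set ι} (h : I ⊆ J) : F0 G I →ₐ[k] F0 G J :=
  ((ρ G h).comp (F0 G I).val).codRestrict (F0 G J) (fun x => ρ_mem_gr G h x.2)

theorem ρ0_val {I J : Set ι} (h : I ⊆ J) (x : F0 G I) : (ρ0 G h x).1 = ρ G h x.1 := rfl

end F0

variable {N d : ℕ} {k : Type u} [Field k] {a : Fin d → ℕ} (G : ∀ j : Fin d, Form N k (a j))

/-- The underlying polynomials. -/
def Gp : Fin d → MvPolynomial (Fin (N + 1)) k := fun j => (G j).1

theorem Gp_isHomogeneous (j : Fin d) : (Gp G j).IsHomogeneous (a j) :=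
  (MvPolynomial.mem_homogeneousSubmodule _ _).1 (G j).2

/-- Laurent polynomials of degree `0` in `(F_I)_0`. -/
noncomputable def toF0 (I : Set (Fin (N + 1))) : L0 N k I →ₐ[k] F0 (Gp G) I :=
  ((mk (Gp G) I).comp (Subalgebra.inclusion (fun _ hx => mem_AI_of_mem_Lsub hx :
    L0 N k I ≤ AI k I))).codRestrict (F0 (Gp G) I) (fun x => mk_mem_gr (Gp G) (m := 0) x.2)

theorem toF0_val (I : Set (Fin (N + 1))) (x : L0 N k I) :
    (toF0 G I x).1 = mk (Gp G) I ⟨x.1, mem_AI_of_mem_Lsub x.2⟩ := rfl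

theorem toF0_surjective (I : Set (Fin (N + 1))) : Function.Surjective (toF0 G I) := by
  rintro ⟨x, hx⟩
  obtain ⟨y, hy, rfl⟩ := exists_of_mem_gr (Gp G) hx
  exact ⟨⟨y.1, hy⟩, Subtype.ext rfl⟩

theorem ker_toF0 {I : Set (Fin (N + 1))} (hI : I.Nonempty) :
    RingHom.ker (toF0 G I) = RingHom.ker (toSec G hI) := by
  ext x
  rw [RingHom.mem_ker, RingHom.mem_ker, toSec_eq_zero_iff, ← ZeroMemClass.coe_eq_zero]
  refine (mk_eq_zero_iff_of_mem_grA (Gp G) (a := a) (Gp_isHomogeneous G) (m := 0)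
    (x := ⟨x.1, mem_AI_of_mem_Lsub x.2⟩) x.2).trans ?_
  simp only [zero_sub]
  rfl

/-- **Functions on `Y ∩ D_+(T_I)`.** -/
noncomputable def e0 {I : Set (Fin (N + 1))} (hI : I.Nonempty) :
    F0 (Gp G) I ≃ₐ[k] SA (yStr G) (UI (ychart G) I) :=
  (Ideal.quotientKerAlgEquivOfSurjective (toF0_surjective G I)).symm.trans
    ((Ideal.quotientEquivAlgOfEq k (ker_toF0 G hI)).trans
      (Ideal.quotientKerAlgEquivOfSurjective (toSec_surjective G hI)))

theorem e0_toF0 {I : Set (Fin (N + 1))} (hI : I.Nonempty) (x : L0 N k I) :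
    e0 G hI (toF0 G I x) = toSec G hI x := by
  have h1 : (Ideal.quotientKerAlgEquivOfSurjective (toF0_surjective G I)).symm (toF0 G I x) =
      Ideal.Quotient.mk _ x := by
    rw [AlgEquiv.symm_apply_eq]
    rfl
  change Ideal.quotientKerAlgEquivOfSurjective (toSec_surjective G hI)
    (Ideal.quotientEquivAlgOfEq k (ker_toF0 G hI)
      ((Ideal.quotientKerAlgEquivOfSurjective (toF0_surjective G I)).symm (toF0 G I x))) = _
  rw [h1]
  rfl

/-- Naturality. -/
theorem resA_e0 {I J : Set (Fin (N + 1))} (hI : I.Nonempty) (h : I ⊆ J) (x : F0 (Gp G) I) :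
    resA (yStr G) (UI_anti (ychart G) h) (e0 G hI x) = e0 G (hI.mono h) (ρ0 (Gp G) h x) := by
  obtain ⟨x, rfl⟩ := toF0_surjective G I x
  have h1 : ρ0 (Gp G) h (toF0 G I x) = toF0 G J (Subalgebra.inclusion (L0_mono h) x) := rfl
  rw [h1, e0_toF0, e0_toF0, resA_toSec G hI h]

end Groth.Agent.Lefpen.H278.RingIso
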