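import Groth.Agent.Lefpen.H278.SysFam
import Groth.Agent.Lefpen.H278.RingIso
import Groth.Agent.CycB.P1Sep
import Groth.Agent.PerfA.QCohEpi

/-!
# The cohomology of `Ω^j` on a smooth complete intersection as the cohomology of a system of algebras

* `omX f U j`: the system `I ↦ ⋀^j Ω[Γ(X, U_I)⁄k]`; `nonempty_omX_equiv`: its cohomology is `H^p(X, Ω^j)`.
* `omSys G j`: the system `I ↦ ⋀^j Ω[(F_I)_0⁄k]`; `nonempty_omSys_equiv`: for `Y = V(G_1, …, G_d)` its cohomology is
  `H^p(Y, Ω^j)`.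
-/

set_option autoImplicit false
universe u

open CategoryTheory CategoryTheory.Limits AlgebraicGeometry TopologicalSpace Opposite

namespace Groth.Agent.Lefpen.H278.OmSys

open LefPen Groth.Agent.Lefpen.H722.Sys Groth.Agent.Lefpen.H721.OmegaPow Groth.Agent.Lefpen.H721.OmegaSec
open Groth.Agent.Lefpen.H278.SecSys Groth.Agent.Lefpen.H278.SecRing Groth.Agent.Lefpen.H278.RingIso
open Groth.Agent.Lefpen.H718.Chart Groth.Agent.Lefpen.H278.SysFam

section X

variable {k : Type u} [Field k] {X : Scheme.{u}} (f : X ⟶ Spec (CommRingCat.of k)) {ι : Type} (U : ι → X.Opens)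

/-- The system `I ↦ ⋀^j Ω[Γ(X, U_I)⁄k]`. -/
noncomputable def omX (j : ℕ) : Sys k ι where
  M I := ⋀[SA f (UI U I)]^j Ω[SA f (UI U I)⁄k]
  res h := powL (resA f (UI_anti U h)) j
  res_res h h' x := by
    rw [powL_apply, powL_apply, powL_apply, powS_powS]
    exact powS_congr (fun s => resA_resA f _ _ s) j x

variable [X.Over (Spec (CommRingCat.of k))]

/-- Sections of `Ω^j` over affine opens. -/
noncomputable def eK (hover : X ↘ Spec (CommRingCat.of k) = f) {j : ℕ} {L : X.Modules} {W : X.Opens}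
    (e : ⋀[SA f W]^j Ω[SA f W⁄k] ≃ₗ[SA f W] Γ(L, W)) : ⋀[SA f W]^j Ω[SA f W⁄k] ≃ₗ[k] Sec k L W :=
  { e.toAddEquiv with
    map_smul' := fun c x => by
      subst hover
      change e (c • x) = (Groth.Agent.Fga.MumCech.glV k W c • e x : Γ(L, W))
      rw [← algebraMap_smul (SA (X ↘ Spec (CommRingCat.of k)) W) c x, map_smul]
      rfl }

theorem eK_apply (hover : X ↘ Spec (CommRingCat.of k) = f) {j : ℕ} {L : X.Modules} {W : X.Opens}
    (e : ⋀[SA f W]^j Ω[SA f W⁄k] ≃ₗ[SA f W] Γ(L, W)) (x : ⋀[SA f W]^j Ω[SA f W⁄k]) :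
    eK f hover e x = e x := rfl

theorem nonempty_omX_equiv_secSys [QuasiCompact (pullback.diagonal f)]
    (hover : X ↘ Spec (CommRingCat.of k) = f) (hU : ∀ I : Set ι, I.Nonempty → IsAffineOpen (UI U I))
    {j : ℕ} {L : X.Modules} (hL : ExtPow.IsExtPow j (Omega.sheaf f) L) (p : ℕ) :
    Nonempty (H (omX f U j) p ≃ₗ[k] H (secSys k U L) p) := by
  obtain ⟨e, he⟩ := exists_equiv_family f hL
  refine nonempty_equiv_of_family (V := omX f U j) (W := secSys k U L)
    (fun I hI => eK f hover (e ⟨UI U I, hU I hI⟩)) (fun I J hI h x => ?_) p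
  exact (he ⟨UI U I, hU I hI⟩ ⟨UI U J, hU J (hI.mono h)⟩ (UI_anti U h) x).symm

theorem nonempty_omX_equiv [QuasiCompact (pullback.diagonal f)]
    (hover : X ↘ Spec (CommRingCat.of k) = f) (hcov : ⨆ i, U i = ⊤)
    (hU : ∀ I : Set ι, I.Nonempty → IsAffineOpen (UI U I))
    {j : ℕ} {L : X.Modules} (hL : ExtPow.IsExtPow j (Omega.sheaf f) L) (hq : Coh.IsQCoh L) (p : ℕ) :
    Nonempty (H (omX f U j) p ≃ₗ[k] Coh.HH X L p) := by
  obtain ⟨e⟩ := nonempty_omX_equiv_secSys f U hover hU hL p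
  obtain ⟨e'⟩ := SecSys.nonempty_equiv k U hcov (fun s hs => hU s hs) L hq p
  exact ⟨e.trans e'⟩

end X

section Alg

variable {k : Type u} [CommRing k] {ι : Type} [Fintype ι] {d : ℕ} (G : Fin d → MvPolynomial ι k)

/-- The system `I ↦ ⋀^j Ω[(F_I)_0⁄k]`. -/
noncomputable def omSys (j : ℕ) : Sys k ι where
  M I := ⋀[F0 G I]^j Ω[F0 G I⁄k]
  res h := powL (ρ0 G h) j
  res_res h h' x := by
    rw [powL_apply, powL_apply, powL_apply, powS_powS]
    exact powS_congr (fun s => Subtype.ext (Groth.Agent.Lefpen.H722.Ring.ρ_ρ G h h' s.1)) j x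

end Alg

section Y

variable {N d : ℕ} {k : Type u} [Field k] {a : Fin d → ℕ} (G : ∀ j : Fin d, Form N k (a j))

theorem nonempty_omSys_equiv_omX (j p : ℕ) :
    Nonempty (H (omSys (Gp G) j) p ≃ₗ[k] H (omX (yStr G) (ychart G) j) p) := by
  refine nonempty_equiv_of_family (V := omSys (Gp G) j) (W := omX (yStr G) (ychart G) j)
    (fun I hI => powE (e0 G hI) j) (fun I J hI h x => ?_) p
  change powS _ j (powS _ j x) = powS _ j (powS _ j x)
  rw [powS_powS, powS_powS]
  exact powS_congr (fun s => (resA_e0 G hI h s).symm) j x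

instance isSeparated_yStr : IsSeparated (yStr G) := by
  have : IsSeparated (CohB1.ProjSpace.toSpec N k) := Groth.Agent.CycB.P1Sep.isSeparated_toSpec N k
  infer_instance

/-- **Čech description of `H^p(Y, Ω^j)`**. -/
theorem nonempty_omSys_equiv (n : ℕ) [SmoothOfRelativeDimension n (yStr G)]
    [(Y G).Over (Spec (CommRingCat.of k))] (hover : (Y G) ↘ Spec (CommRingCat.of k) = yStr G)
    {j : ℕ} {L : (Y G).Modules} (hL : ExtPow.IsExtPow j (Omega.sheaf (yStr G)) L) (p : ℕ) :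
    Nonempty (H (omSys (Gp G) j) p ≃ₗ[k] Coh.HH (Y G) L p) := by
  have hs : Smooth (yStr G) := SmoothOfRelativeDimension.smooth n (yStr G)
  have hq : Coh.IsQCoh L := Groth.Agent.PerfA.QCohEpi.isQCoh_of_isFinLocFree
    (isFinLocFree_of_isExtPow_omega (yStr G) hL)
  obtain ⟨e⟩ := nonempty_omSys_equiv_omX G j p
  obtain ⟨e'⟩ := nonempty_omX_equiv (yStr G) (ychart G) hover (iSup_ychart G)
    (fun I hI => isAffineOpen_UI_ychart G hI) hL hq p
  exact ⟨e.trans e'⟩

end Y

end Groth.Agent.Lefpen.H278.OmSys
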