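import Groth.Agent.Lefpen.H722.Sys

/-!
# Isomorphisms of systems defined on nonempty subsets only
-/

set_option autoImplicit false
universe u

open CategoryTheory CategoryTheory.Limits

namespace Groth.Agent.Lefpen.H278.SysFam

open Groth.Agent.Lefpen.H722.Sys

variable {k : Type u} [CommRing k] {ι : Type} {V W : Sys k ι}

/-- The map on cochains of a family of maps on nonempty subsets. -/
def famC (f : ∀ I : Set ι, I.Nonempty → (V.M I →ₗ[k] W.M I)) (p : ℕ) : C V p →ₗ[k] C W p :=
  LinearMap.pi fun σ => f _ (Set.range_nonempty σ) ∘ₗ LinearMap.proj σ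

theorem famC_apply (f : ∀ I : Set ι, I.Nonempty → (V.M I →ₗ[k] W.M I)) (p : ℕ) (s : C V p)
    (σ : Fin (p + 1) → ι) : famC f p s σ = f _ (Set.range_nonempty σ) (s σ) := rfl

theorem famC_d (f : ∀ I : Set ι, I.Nonempty → (V.M I →ₗ[k] W.M I))
    (hf : ∀ (I J : Set ι) (hI : I.Nonempty) (h : I ⊆ J) (x : V.M I),
      f J (hI.mono h) (V.res h x) = W.res h (f I hI x)) (p : ℕ) (s : C V p) :
    famC f (p + 1) (d V p s) = d W p (famC f p s) := by
  funext σ
  rw [famC_apply, d_apply, d_apply, map_sum]
  refine Finset.sum_congr rfl fun j _ => ?_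
  rw [map_zsmul]
  congr 1
  exact hf _ _ (Set.range_nonempty _) (face_subset σ j) _

/-- The map of Čech complexes of a family of maps on nonempty subsets. -/
noncomputable def famMap (f : ∀ I : Set ι, I.Nonempty → (V.M I →ₗ[k] W.M I))
    (hf : ∀ (I J : Set ι) (hI : I.Nonempty) (h : I ⊆ J) (x : V.M I),
      f J (hI.mono h) (V.res h x) = W.res h (f I hI x)) : cx V ⟶ cx W :=
  CochainComplex.ofHom (X := cx V) (Y := cx W)
    (fun p => ModuleCat.ofHom (famC f p)) (fun p => by
    rw [cx_d, cx_d]
    apply ModuleCat.hom_ext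
    refine LinearMap.ext fun s => ?_
    exact (famC_d f hf p s).symm)

/-- A natural family of isomorphisms on nonempty subsets gives an isomorphism on cohomology. -/
theorem nonempty_equiv_of_family (f : ∀ I : Set ι, I.Nonempty → (V.M I ≃ₗ[k] W.M I))
    (hf : ∀ (I J : Set ι) (hI : I.Nonempty) (h : I ⊆ J) (x : V.M I),
      f J (hI.mono h) (V.res h x) = W.res h (f I hI x)) (p : ℕ) :
    Nonempty (H V p ≃ₗ[k] H W p) := by
  have : IsIso (famMap (fun I hI => (f I hI).toLinearMap) hf) := by
    have : ∀ q, IsIso ((famMap (fun I hI => (f I hI).toLinearMap) hf).f q) := fun q => by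
      change IsIso (ModuleCat.ofHom (famC (fun I hI => (f I hI).toLinearMap) q))
      refine (ConcreteCategory.isIso_iff_bijective _).2 ⟨?_, ?_⟩
      · intro s t hst
        funext σ
        exact (f _ (Set.range_nonempty σ)).injective (congrFun hst σ)
      · intro t
        choose s hs using fun σ => (f _ (Set.range_nonempty σ)).surjective ((show C W q from t) σ)
        exact ⟨(show C V q from s), funext hs⟩
    exact HomologicalComplex.Hom.isIso_of_components _
  exact ⟨((HomologicalComplex.homologyFunctor _ _ p).mapIso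
    (asIso (famMap (fun I hI => (f I hI).toLinearMap) hf))).toLinearEquiv⟩

end Groth.Agent.Lefpen.H278.SysFam
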